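import Cfsg.Agent.FourTwo.Facts2
import Cfsg.Agent.S1054

/-!
# Elements of maximal parabolics of `F₄(2)` outside the radical

`not_rad` : if a conjugate of `g ≠ 1` lies in `Ps` or in `Pl`, then a conjugate of `g` lies in `Ps` outside `O₂(Ps)` or in
`Pl` outside `O₂(Pl)`.
-/

set_option autoImplicit false

namespace Cfsg.Agent.H434.FF

open Cfsg.Lie Cfsg.Agent.FourTwo.Base Cfsg.Agent.FourTwo.BN Cfsg.Agent.FourTwo.Par Cfsg.Agent.FourTwo.Cent
  Cfsg.Agent.FourTwo.Facts2 Cfsg.Agent.FourTwo.Comm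

/-- the roots of `O₂(Pl)` -/
def ql (r : ℕ) : Bool := [24, 26, 29, 31, 32, 36, 38, 39, 40, 42, 43, 44, 45, 46, 47].contains r

theorem not_rad {g : LL} (h1 : g ≠ 1) (h : ∃ y, y * g * y⁻¹ ∈ Ps ∨ y * g * y⁻¹ ∈ Pl) :
    (∃ y, y * g * y⁻¹ ∈ Ps ∧ y * g * y⁻¹ ∉ RG (fun r => decide (33 ≤ r))) ∨
    (∃ y, y * g * y⁻¹ ∈ Pl ∧ y * g * y⁻¹ ∉ RG ql) := by
  by_contra hcon
  push Not at hcon
  obtain ⟨N1, N2⟩ := hcon
  have e1 : RG (fun r => decide (33 ≤ r)) ≤ U := by
    rw [U_eq_RG]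
    exact RG_mono fun r _ hp => by
      rw [decide_eq_true_eq] at hp ⊢
      omega
  have e2 : RG ql ≤ U := by
    rw [U_eq_RG]
    have ht : ∀ r < 48, ql r = true → decide (24 ≤ r) = true := by decide +kernel
    exact RG_mono ht
  have hX : ∃ y, y * g * y⁻¹ ∈ RG (fun r => decide (33 ≤ r)) ∧ y * g * y⁻¹ ∈ RG ql := by
    obtain ⟨y, hy | hy⟩ := h
    · have h2 := N1 y hy
      exact ⟨y, h2, N2 y (U_le_Pl (e1 h2))⟩
    · have h2 := N2 y hy
      exact ⟨y, N1 y (U_le_Ps (e2 h2)), h2⟩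
  -- the elements which keep the property
  let H : Subgroup LL :=
    { carrier := {k | ∀ y, (y * g * y⁻¹ ∈ RG (fun r => decide (33 ≤ r)) ∧ y * g * y⁻¹ ∈ RG ql) ↔
        (k * y * g * (k * y)⁻¹ ∈ RG (fun r => decide (33 ≤ r)) ∧ k * y * g * (k * y)⁻¹ ∈ RG ql)}
      one_mem' := by intro y; rw [one_mul]
      mul_mem' := by
        intro a b ha hb y
        rw [hb y, ha (b * y), mul_assoc a b y]
      inv_mem' := by
        intro a ha y
        have h2 := ha (a⁻¹ * y)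
        rw [mul_inv_cancel_left] at h2
        exact h2.symm }
  have key : ∀ P : Subgroup LL, (P = Ps ∨ P = Pl) → ∀ p ∈ P, ∀ y,
      (y * g * y⁻¹ ∈ RG (fun r => decide (33 ≤ r)) ∧ y * g * y⁻¹ ∈ RG ql) →
      (p * y * g * (p * y)⁻¹ ∈ RG (fun r => decide (33 ≤ r)) ∧ p * y * g * (p * y)⁻¹ ∈ RG ql) := by
    rintro P (rfl | rfl) p hp y ⟨h2, h3⟩
    · have h4 : p * y * g * (p * y)⁻¹ ∈ Ps := by
        rw [show p * y * g * (p * y)⁻¹ = p * (y * g * y⁻¹) * p⁻¹ by group]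
        exact mul_mem (mul_mem hp (U_le_Ps (e1 h2))) (inv_mem hp)
      have h5 := N1 _ h4
      exact ⟨h5, N2 _ (U_le_Pl (e1 h5))⟩
    · have h4 : p * y * g * (p * y)⁻¹ ∈ Pl := by
        rw [show p * y * g * (p * y)⁻¹ = p * (y * g * y⁻¹) * p⁻¹ by group]
        exact mul_mem (mul_mem hp (U_le_Pl (e1 h2))) (inv_mem hp)
      have h5 := N2 _ h4
      exact ⟨N1 _ (U_le_Ps (e2 h5)), h5⟩
  have hH : ∀ P : Subgroup LL, (P = Ps ∨ P = Pl) → P ≤ H := by
    intro P hP p hp y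
    constructor
    · exact key P hP p hp y
    · intro h2
      have h3 := key P hP p⁻¹ (inv_mem hp) (p * y) h2
      rwa [inv_mul_cancel_left] at h3
  have htop := closure_Ps_Pl (hH Ps (Or.inl rfl)) (hH Pl (Or.inr rfl))
  obtain ⟨y₀, hy₀⟩ := hX
  have hall : ∀ y, y * g * y⁻¹ ∈ RG (fun r => decide (33 ≤ r)) := by
    intro y
    have h2 : y * y₀⁻¹ ∈ H := by rw [htop]; exact Subgroup.mem_top _
    have h3 := (h2 y₀).1 hy₀
    rw [inv_mul_cancel_right] at h3
    exact h3.1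
  -- the normal subgroup
  let N : Subgroup LL :=
    { carrier := {k | ∀ y, y * k * y⁻¹ ∈ RG (fun r => decide (33 ≤ r))}
      one_mem' := by intro y; rw [mul_one, mul_inv_cancel]; exact one_mem _
      mul_mem' := by
        intro a b ha hb y
        rw [show y * (a * b) * y⁻¹ = (y * a * y⁻¹) * (y * b * y⁻¹) by group]
        exact mul_mem (ha y) (hb y)
      inv_mem' := by
        intro a ha y
        rw [show y * a⁻¹ * y⁻¹ = (y * a * y⁻¹)⁻¹ by group]
        exact inv_mem (ha y) }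
  have hN : N.Normal := ⟨by
    intro a ha b y
    rw [show y * (b * a * b⁻¹) * y⁻¹ = (y * b) * a * (y * b)⁻¹ by group]
    exact ha (y * b)⟩
  have hs : IsSimpleGroup LL := (Cfsg.Agent.S1054.result (F := ZMod 2) chevF4 (by simp)).1
  rcases hN.eq_bot_or_eq_top with hb | ht
  · exact h1 (by
      have : g ∈ N := hall
      rwa [hb, Subgroup.mem_bot] at this)
  · have h2 : x 24 ∈ N := by rw [ht]; exact Subgroup.mem_top _
    have h3 := h2 1
    rw [one_mul, inv_one, mul_one] at h3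
    have hc : closedB (fun r => decide (33 ≤ r)) = true := by decide +kernel
    have h4 := (x_mem_RG_iff hc (by norm_num : 24 < 48)).1 h3
    exact absurd h4 (by decide)

end Cfsg.Agent.H434.FF
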