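import Cfsg.Agent.H612.Ore.SpSpin
import Cfsg.Agent.Co2Type.Abs2

/-!
# Commutators of generating pairs in `Sp₆(2)`

`gen_comm` : every element of `Sp₆(2)` which is neither `1` nor a transvection is a commutator `[a, b]` with
`⟨a, b⟩ = Sp₆(2)`.  (For a transvection this is impossible: `ab - ba` has rank one.)
`tr_comm` : a transvection is the commutator of the explicit pair `wd tv (aws 1)`, `wd tv (bws 1)` of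
`H612.Ore.SpCover`; no nonzero fixed vector on the natural module, on the spin module, and no invariant quadratic form.
-/

set_option autoImplicit false

namespace Cfsg.Agent.H434.FF

open Cfsg Cfsg.Agent.ClassicalGeometry.SympBasic
open Cfsg.Agent.SporRec.TwoSp6.Sp (V S om tr act act_one act_mul act_ext act_add act_om act_tr enc enc_xor om_enc
  fN exists_enc conj_tr)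
open Cfsg.Agent.H612.Ore
open Cfsg.Agent.Co2Type.Coord (uv)

/-- first words -/
def xws : List (List ℕ) := [[], [], [3, 1, 2, 6, 2, 3, 4, 1, 2, 3, 0, 1, 2, 6, 2, 3, 4, 5, 1, 2, 3, 4, 1, 2, 3, 0, 1, 2, 1, 0], [5, 4, 1, 2,
  3, 0, 1, 2, 6, 4, 5, 2, 3, 4, 3, 1, 2], [4, 2, 3, 1, 2, 6, 2, 3, 4, 1, 2, 3, 0, 1, 2, 6, 1, 2, 3, 4, 5, 0, 1, 2,
  3, 0], [4, 3, 2, 6, 3, 4, 1, 2, 3, 0, 1, 2, 6, 4, 5, 2, 3, 4, 1, 2, 3, 0, 1, 2, 6, 2, 3, 4, 3, 2, 0], [1, 2, 6,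
  4, 5, 2, 3, 4, 1, 2, 3, 0, 1, 2, 6, 5, 2, 3, 4, 3], [1, 2, 3, 0, 1, 2, 6, 5, 2, 3, 4, 1, 2, 3, 0, 1, 2, 6, 4, 5,
  0, 1, 2, 3, 4, 0, 1, 2, 3, 2, 0], [4, 3, 0, 1, 2, 6, 4, 5, 2, 3, 4, 1, 2, 3, 0, 1, 2, 6, 4, 5, 3, 4, 1, 2, 3, 0,
  1, 2], [3, 2, 6, 4, 5, 3, 4, 2, 3, 0, 1, 2, 6, 1, 2, 3, 4, 5, 4, 2, 1], [2, 6, 4, 1, 2, 3, 0, 1, 2, 6, 3, 4, 0,
  1, 2, 3, 1, 2, 1, 0], [6, 2, 3, 1, 2, 6, 4, 5, 3, 4, 2, 3, 0, 1, 2, 6, 0, 1, 2, 3, 4, 5, 3, 4, 0], [3, 0, 1, 2,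
  6, 4, 5, 3, 4, 2, 3, 0, 1, 2, 6, 3, 4, 3, 1, 2, 1], [5, 4, 3, 2, 6, 2, 3, 4, 1, 2, 3, 0, 1, 2, 6, 4, 5, 2, 3, 4,
  1, 2, 3, 0, 1, 2, 6, 4, 0], [6, 5, 3, 4, 2, 3, 0, 1, 2, 6, 4, 5, 2, 3, 4, 1, 2, 3, 0, 1, 2, 6, 3, 4, 2, 3, 2],
  [6, 2, 3, 0, 1, 2, 6, 4, 5, 3, 4, 1, 2, 3, 0, 1, 2, 6, 5, 1, 2, 3, 4, 0, 1], [3, 2, 6, 2, 3, 4, 5, 3, 4, 1], [0,
  1, 2, 6, 5, 3, 4, 2, 3, 0, 1, 2, 6, 2, 3, 4, 0, 1, 0], [6, 4, 2, 3, 0, 1, 2, 6, 3, 4, 5, 2, 3, 4, 1, 2, 3, 0, 1,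
  2, 6, 0, 1, 2, 3, 4, 3, 1, 2, 0], [5, 4, 3, 2, 6, 3, 4, 1, 2, 3, 0, 1, 2, 6, 3, 4, 3, 2, 1], [3, 1, 2, 6, 4, 5,
  3, 4, 2, 3, 0, 1, 2, 6, 0, 1, 2, 1, 0], [0, 1, 2, 6, 3, 4, 2, 3, 1, 2, 6, 4, 5, 2, 3, 0, 1, 2, 0, 1], [5, 4, 3,
  2, 6, 4, 5, 2, 3, 4, 1, 2, 3, 0, 1, 2, 6, 0, 1, 2, 3, 4, 5, 4, 2, 3, 0, 1, 2, 0, 1], [2, 3, 0, 1, 2, 6, 2, 3, 4,
  1, 2, 3, 0, 1, 2, 6, 3, 4, 5, 0, 1, 2, 3, 4, 3, 1, 2, 0], [2, 6, 5, 3, 4, 2, 3, 0, 1, 2, 6, 3, 4, 5, 2, 3, 4, 1,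
  2, 3, 0, 1, 2, 6, 5, 1, 2, 1], [2, 6, 4, 5, 3, 4, 2, 3, 0, 1, 2, 6, 4, 5, 4, 3, 0, 1, 2], [5, 4, 3, 1, 2, 6, 5,
  3, 4, 1, 2, 3, 0, 1, 2, 6, 4, 3, 1, 2, 1, 0], [6, 5, 3, 4, 2, 3, 1, 2, 6, 4, 5, 2, 3, 4, 1, 2, 3, 0, 1, 2, 6, 4,
  5, 4, 1, 2, 3, 1, 0], [2, 3, 0, 1, 2, 6, 3, 4, 5, 0, 1, 2, 3, 4, 2], [4, 2, 3, 1, 2, 6, 4, 5, 2, 3, 4, 1, 2, 3,
  0, 1, 2, 6, 3, 4, 5, 2, 3, 4, 2, 3, 0, 1, 2, 0, 1]]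

/-- second words -/
def yws : List (List ℕ) := [[], [], [3, 4, 2, 3, 0, 1, 2, 6, 2, 3, 4, 0, 1, 2, 3, 0, 1, 2], [2, 3, 1, 2, 6, 3, 4, 5, 2, 3, 4, 1, 2, 3, 0, 1,
  2, 6, 0, 1, 2, 3, 4, 5, 1, 2, 3, 4, 0, 1], [5, 2, 3, 4, 1, 2, 3, 0, 1, 2, 6, 0, 1, 2, 3, 4, 5, 3, 4, 0, 1, 2, 3,
  2, 0, 1], [6, 4, 2, 3, 0, 1, 2, 6, 4, 5, 3, 4, 1, 2, 3, 0, 1, 2, 6, 1, 2, 3, 4, 5, 4, 3, 0, 1, 0], [6, 5, 4, 2,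
  3, 0, 1, 2, 6, 3, 4, 5, 2, 3, 4, 1, 2, 3, 0, 1, 2, 6, 4, 5, 4, 3, 0, 1, 2, 1, 0], [4, 3, 2, 6, 1, 2, 3, 0, 1, 2,
  6, 4, 5, 3, 4, 2, 3, 0, 1, 2, 6, 2, 3, 4, 5, 4, 1, 2, 3], [3, 2, 6, 3, 4, 1, 2, 3, 0, 1, 2, 6, 4, 5, 3, 4, 3, 0],
  [5, 4, 3, 1, 2, 6, 3, 4, 5, 2, 3], [2, 6, 4, 1, 2, 3, 0, 1, 2, 6, 4, 5, 3, 4, 1, 2, 3, 0, 1, 2, 6, 3, 4, 5, 2, 3,
  4, 3, 1, 0], [5, 4, 3, 2, 6, 1, 2, 3, 0, 1, 2, 6, 4, 5, 3, 4, 2, 3, 0, 1, 2, 6, 1, 2, 1], [0, 1, 2, 6, 5, 3, 4,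
  2, 3, 0, 1, 2, 6, 3, 4, 5, 4], [0, 1, 2, 6, 2, 3, 4, 1, 2, 3, 0, 1, 2, 6, 2, 3, 4, 5, 1, 2], [6, 2, 3, 0, 1, 2,
  6, 4, 5, 2, 3, 4, 1, 2, 3, 0, 1, 2, 6, 4, 5, 0, 1, 2, 3, 4, 1, 2, 3, 0, 1], [6, 5, 3, 4, 1, 2, 3, 0, 1, 2, 6, 0,
  1, 2, 3, 4, 5, 0, 1, 2, 3, 4, 0, 1, 2], [3, 4, 2, 3, 0, 1, 2, 6, 3, 4, 5, 2, 3, 4, 1, 2, 3, 0, 1, 2, 6, 2, 3, 4,
  5, 0, 1, 2, 0], [3, 2, 6, 4, 5, 3, 4, 2, 3, 0, 1, 2, 6, 3, 4, 5, 2, 3, 4, 1, 2, 3, 0, 1, 2, 6, 4, 5, 0, 1], [6,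
  4, 5, 3, 4, 1, 2, 3, 0, 1, 2, 6, 4, 5, 2, 3, 4, 1, 2, 3, 0, 1, 2, 6, 4, 5, 0, 1], [4, 3, 0, 1, 2, 6, 5, 2, 3, 4,
  1, 2, 3, 0, 1, 2, 6, 3, 4, 5, 0, 1, 2, 3, 4, 1, 2, 3, 2, 1, 0], [6, 2, 3, 1, 2, 6, 4, 5, 3, 4, 1, 2, 3, 0, 1, 2,
  6, 5, 0, 1, 2, 3, 4, 1, 2, 3, 1, 0], [3, 4, 1, 2, 3, 0, 1, 2, 6, 3, 4, 5, 2, 3, 4, 1, 2, 3, 0, 1, 2, 6, 5, 2, 3,
  2, 1], [0, 1, 2, 6, 1, 2, 3, 4, 5, 2, 3, 4, 3, 1, 2, 0], [0, 1, 2, 6, 3, 4, 2, 3, 1, 2, 6, 4, 1], [5, 2, 3, 4, 1,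
  2, 3, 0, 1, 2, 6, 3, 4, 5, 2, 3, 4, 1, 2, 3, 0, 1, 2, 6, 4, 5, 1, 2, 3, 2, 1], [6, 1, 2, 3, 0, 1, 2, 6, 4, 5, 2,
  3, 4, 1, 2, 3, 0, 1, 2, 6, 4, 5, 2, 3, 4, 1, 2, 3, 2, 1, 0], [4, 5, 3, 4, 2, 3, 0, 1, 2, 6, 4, 5, 4, 1, 2, 3, 2,
  1], [5, 3, 4, 2, 3, 1, 2, 6, 2, 3, 4, 1, 2, 3, 0, 1, 2, 6, 2, 3, 4, 5, 0, 1, 2, 3, 4], [4, 2, 3, 0, 1, 2, 6, 3,
  4, 5, 2, 3, 4, 1, 2, 3, 0, 1, 2, 6, 2, 3, 4, 5, 1, 2], [4, 3, 0, 1, 2, 6, 5, 2, 3, 4, 1, 2, 3, 0, 1, 2, 6, 0, 1,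
  2, 3, 4, 5, 3, 1]]

/-- matrix codes of the first words -/
def xcs : List ℕ := [34630287489, 34630287489, 42284827580, 6173601640, 27387304208, 29364869742, 49955135167, 1435147600, 37956913208,
  3891964034, 50717171442, 12256879172, 34338526610, 21901929658, 4185087898, 57486593204, 51929496974,
  16663384496, 41143309050, 1473633446, 17331959332, 65760306579, 63041970728, 53171643052, 52179584622,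
  28133623108, 9860795526, 31788517036, 59050870996, 14782329115]

/-- matrix codes of the second words -/
def ycs : List ℕ := [34630287489, 34630287489, 68217198857, 37052956618, 44506537726, 59637089044, 46330481750, 46796698306,
  15881476435, 51281917769, 60500049638, 9232717954, 67470734477, 45267183033, 45985328719, 23461654785,
  8402642730, 34767521347, 66995332180, 62372354386, 43499199466, 36875597622, 67604134853, 18144732261,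
  18348671957, 4569090008, 44575242562, 27707096531, 21326866237, 61996893155]

/-- the seven transvections as words in the pair -/
def gws : List (List (List ℕ)) := [[], [], [[1, 1, 0, 0, 0, 1, 1, 0, 0, 1, 1, 0, 0], [1, 0, 0, 1, 0, 1, 0, 1, 1, 0, 1, 0, 1, 0], [1, 0, 1, 1, 0, 1,
  0, 1, 0, 0, 1, 0, 1, 0], [1, 0, 1, 0, 1, 0, 0, 1, 0, 1, 0, 1, 1, 0], [1, 1, 0, 0, 1, 1, 0, 1, 1, 1, 1, 0, 0, 1,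
  1, 0, 0], [1, 1, 0, 0, 1, 1, 0, 0, 1, 1, 0, 1, 1, 1, 1, 0, 0], [0, 1, 1, 0, 1, 0, 1, 0, 1, 0, 0, 0, 0, 0, 1, 0,
  0, 1, 0, 1]], [[1, 0, 1, 0, 1], [0, 1, 1, 1, 0, 1, 1, 0, 0, 1, 0, 1, 1, 0, 1], [0, 1, 1, 0, 1], [1, 1, 0, 0, 1,
  1, 0, 0, 1, 1, 0, 1, 0, 0], [1, 1, 0, 0, 1, 0, 1, 0, 0, 1, 0, 1, 0, 1, 0, 0, 1, 1, 0], [1, 1, 0, 1, 1, 0, 0, 1,
  0, 1, 0, 0, 1, 1, 1, 1, 1, 0, 0, 0], [0, 0, 0, 0, 0, 1, 1, 0, 1, 0, 0, 0, 0, 0, 0, 0, 0]], [[1, 1, 1, 0, 0, 0, 0,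
  1, 0, 1, 1, 0, 1, 1, 0, 1, 0, 1], [1, 1, 0, 1, 1, 0, 1, 0, 0, 0, 0, 0, 1, 0], [1, 0, 0, 0, 0, 0, 1, 0, 1, 1, 0,
  1, 1, 0, 0, 1, 0, 0, 1, 0], [1, 1, 1, 0, 1, 0, 1, 1, 0, 1, 1, 0, 1, 0, 0, 0, 0, 1], [0, 0, 0, 1, 0, 1, 0, 0, 1,
  0, 0, 1, 1, 0, 1, 1, 0, 1, 0, 0], [0, 0, 0, 0, 1, 1, 0, 0, 1, 0, 0, 0, 1, 0, 1, 1, 0, 0, 1, 1, 0, 1], [0, 0, 1,
  0, 1, 0, 0, 1, 0, 0, 1, 1, 0, 1, 1, 0, 1, 0, 0, 0]], [[1, 1, 1, 0, 0, 1, 1, 0, 1, 1, 1, 0, 0, 1, 1, 1, 0, 1], [0,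
  1, 1, 1, 0, 0, 1, 1, 1, 0, 1, 1, 1, 1, 0, 0, 1, 1], [0, 0, 1, 1, 1, 1, 0, 0, 0, 1, 0, 1, 1, 0, 1, 1, 1, 0, 0, 0],
  [1, 1, 1, 1, 0, 0, 1, 1, 0, 1, 1, 1, 0, 0, 1, 1, 1, 0], [1, 1, 1, 1, 0, 0, 0, 1, 0, 1, 1, 0, 1, 1, 1, 0, 0, 0, 0,
  0], [0, 1, 1, 0, 1, 1, 1, 0, 0, 0, 0, 0, 1, 1, 1, 1, 0, 0, 0, 1], [0, 1, 1, 1, 0, 1, 0, 1, 0, 1, 1, 0, 0, 1, 0,
  0, 0, 1, 0, 0]], [[0, 0, 0, 0, 0, 0, 0, 0, 0, 0, 0, 0, 1, 1, 1, 1, 1, 0, 0, 0], [0, 1, 1, 0, 1, 1, 1, 0, 0, 0, 1,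
  0, 0, 1, 0, 0, 0], [1, 1, 0, 1, 1, 1, 1, 1, 1, 1, 0, 1, 1, 0, 1, 1, 0], [0, 1, 1, 0, 0, 0, 1, 1, 0, 0, 1, 1, 1,
  0, 0, 0, 1, 0, 1, 0, 0], [1, 0, 0, 0, 0, 1, 1, 0, 1, 1, 1, 0, 0, 0, 1, 0, 0], [1, 1, 1, 1, 0, 0, 0, 1, 0, 1, 0,
  1, 1, 0, 0, 1], [0, 1, 1, 1, 0, 0, 1, 1, 0, 1, 0, 0, 0, 1, 1, 0, 0, 1, 0, 0]], [[1, 0, 1, 0, 0, 1, 1, 0, 0, 1, 0,
  1, 1, 0, 0, 0, 1], [1, 0, 1, 1, 0, 1, 0, 1, 0, 0, 1, 1, 0, 1, 0, 0, 0, 1, 1, 0, 0], [1, 1, 1, 0, 1, 0, 0, 1, 0,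
  1, 1, 0, 1, 0, 1, 0, 1, 0, 0], [1, 0, 1, 0, 0, 0, 1, 0, 1, 0, 1, 1, 0, 1, 0, 0, 0, 1, 1, 0, 0, 0], [0, 0, 1, 0,
  0, 0, 0, 1, 0, 1, 1, 0, 0, 1, 1, 0, 1, 0, 0], [0, 0, 1, 0, 1, 0, 0, 1, 1, 0, 0, 0, 0, 0, 0, 1, 1, 0, 1, 0, 0, 0],
  [1, 1, 0, 0, 0, 1, 1, 0, 1, 0, 0, 1, 1, 0, 0, 1, 0]], [[0, 0, 1, 1, 0, 0, 1, 0, 1, 0, 1, 0, 0, 0, 1, 1, 0, 0, 0,
  0, 0], [0, 0, 0, 1, 1, 0, 0, 0, 0, 0, 0, 0, 1, 1, 0, 1, 0, 1, 1, 0, 0], [1, 0, 0, 1, 1, 1, 0, 0, 1, 0, 0, 0, 0,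
  1, 1, 0, 0, 1, 1], [0, 1, 0, 1, 0, 1, 0, 0, 0, 1, 1, 0, 0, 0, 0, 0, 0, 0, 1, 1, 0], [1, 0, 0, 1, 1, 0, 0, 1, 1,
  0, 0, 1, 1, 0, 0, 1, 1, 0, 0, 1], [0, 0, 1, 1, 0, 0, 0, 0, 0, 0, 0, 1, 1, 0, 1, 0, 1, 1, 0, 0, 0], [0, 0, 0, 1,
  1, 1, 0, 0, 0, 0, 0, 0, 0, 0, 0]], [[0, 1, 1, 0, 1, 1, 0, 1, 1], [1, 0, 0, 0, 1, 0, 1, 0, 1, 1, 1, 1, 1, 0, 0, 0,
  0, 1, 0, 0, 0, 0], [1, 0, 1, 1, 1, 0, 1, 1, 0, 0, 1, 0, 1, 1, 0, 0, 1, 0, 1, 0, 0, 0], [0, 0, 1, 0, 1, 1, 0, 1,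
  0, 1, 0, 0, 1, 0, 1, 1, 0, 0, 0, 1, 0, 0], [0, 1, 0, 1, 1, 1, 0, 1, 1, 0, 0, 1, 0, 1, 1, 0, 0, 1, 0, 1, 0, 0],
  [0, 1, 0, 0, 0, 1, 0, 0, 0, 1, 0, 0, 0, 1, 0, 0, 0, 1, 0, 0], [0, 0, 0, 0, 0, 0, 1, 0, 1, 1, 0, 1, 1, 0, 1, 0,
  0]], [[0, 1, 0, 1, 0, 0, 1, 0, 0, 1, 0, 0, 0, 1, 0, 1, 0, 1, 0, 0, 0, 1, 0, 0, 1, 0], [0, 1, 0, 1, 1, 0, 0, 1, 0,
  1, 0, 0, 1, 0, 1, 0, 0, 1, 1, 0, 1, 0, 0], [0, 1, 1, 0, 1, 1, 0, 0, 0, 1, 0, 0, 0, 1, 0, 0, 0, 0, 1, 0, 0, 0, 1,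
  0, 0], [1, 0, 1, 0, 1, 0, 0, 0, 1, 0, 0, 1, 0, 0, 1, 0, 1, 0, 0, 1, 0, 0, 1, 0, 0, 0], [1, 1, 0, 0, 1, 1, 0, 0,
  1, 0, 0, 0, 0, 1, 0, 0, 1, 1, 0, 0, 1, 1, 0], [0, 1, 0, 0, 0, 0, 1, 0, 0, 1, 1, 0, 0, 1, 1, 0, 1, 1, 0, 0, 1, 1,
  0], [0, 0, 1, 0, 0, 0, 0, 1, 0, 0, 1, 0, 1, 0, 1, 1, 0, 0, 0, 0, 1, 0, 0, 1]], [[0, 0, 1, 1, 1, 1, 0, 0, 0, 0, 1,
  1, 0, 0, 0, 0, 0, 1, 0, 0, 0, 1, 0, 0, 0, 1], [1, 1, 0, 1, 1, 1, 1, 1, 0, 0, 0, 1, 0, 0, 1, 1, 0, 0, 1, 1, 1, 0,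
  0, 0, 1, 0, 0], [0, 1, 0, 0, 0, 1, 0, 0, 1, 1, 1, 1, 0, 0, 0, 0, 1, 1, 0, 0, 0, 0, 0, 1, 0, 0], [0, 0, 0, 0, 1,
  1, 0, 1, 1, 0, 0, 0, 0, 1, 1, 0, 0, 0, 1, 1, 1, 1, 1, 0, 1, 1, 1], [1, 0, 0, 1, 0, 0, 1, 0, 0, 0, 0, 1, 1, 0, 0,
  0, 0, 0, 1, 1, 1, 1, 0, 0, 0, 0], [1, 0, 0, 0, 0, 1, 0, 0, 1, 1, 0, 0, 0, 1, 1, 1, 1, 1, 0, 1, 1, 1, 0, 1, 1, 0,
  0], [0, 1, 1, 0, 0, 0, 1, 1, 1, 1, 1, 1, 0, 0, 0, 1, 0, 0, 1, 0, 0, 0, 1, 0, 0, 0, 0]], [[0, 0, 0, 1, 0, 1, 1, 0,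
  0, 1, 0, 1, 0, 0, 0, 1, 1, 1, 1, 0], [0, 1, 1, 0, 0, 1, 0, 1, 0, 0, 0, 1, 1, 1, 1, 0, 0, 0, 0, 1], [1, 0, 1, 0,
  1, 0, 1, 1, 0, 1, 0, 0, 0, 1, 0, 1, 0, 1, 1, 1, 0], [0, 0, 1, 1, 1, 1, 0, 0, 0, 0, 1, 0, 1, 1, 0, 0, 1, 0, 1, 0],
  [1, 0, 1, 0, 1, 1, 1, 0, 1, 0, 1, 1, 1, 0, 1, 0, 1, 1], [0, 1, 0, 1, 0, 1, 0, 1, 1, 0, 1, 0, 0, 0, 1, 0, 1, 0, 1,
  1, 1], [0, 1, 0, 1, 0, 1, 0, 1, 0, 0, 0, 1, 0, 0, 1, 1, 0, 0, 1, 0, 0]], [[0, 1, 1, 1, 1, 0, 1, 1, 0, 0, 1, 1, 0,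
  0, 0, 1, 0, 1, 0, 1, 0, 0], [0, 0, 1, 1, 0, 1, 0, 1, 1, 0, 0, 1, 0, 0, 1, 0, 0, 1, 0, 0, 0, 0, 0], [1, 1, 0, 1,
  1, 0, 0, 1, 1, 0, 0, 0, 1, 0, 1, 0, 1, 0, 0, 0, 1, 1], [0, 0, 1, 1, 1, 0, 0, 0, 1, 1, 0, 0, 0, 1, 0, 1, 0, 0, 1,
  0, 0], [0, 1, 1, 1, 0, 0, 0, 1, 1, 0, 0, 0, 1, 0, 1, 0, 0, 1, 0, 0, 0], [1, 0, 0, 0, 1, 0, 0, 1, 0, 1, 1, 1, 0,
  1, 1, 1, 0, 1, 0, 1, 0], [1, 0, 0, 1, 0, 1, 1, 1, 0, 1, 1, 1, 0, 1, 0, 1, 0, 1, 0, 0, 0]], [[1, 1, 0, 0, 1, 1, 0,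
  0, 1, 0, 0, 1, 0, 1, 0, 1, 0, 1, 0], [0, 1, 0, 1, 1, 1, 0, 1, 0, 1, 1, 1, 0, 1, 0, 0, 1, 1, 0, 0], [1, 0, 0, 1,
  1, 1, 1, 0, 1, 0, 1, 1, 1, 1, 0, 0, 0, 1, 0, 1], [0, 1, 1, 0, 0, 0, 1, 0, 0, 0, 0, 0, 1, 0, 0, 0, 1, 1, 0, 0],
  [0, 1, 0, 1, 1, 0, 0, 1, 1, 0, 0, 1, 0, 0, 1, 0, 1, 0, 1], [0, 1, 0, 0, 1, 0, 1, 0, 1, 0, 0, 0, 1, 1, 0, 0, 0, 0,
  1, 0], [1, 1, 1, 0, 0, 1, 1, 1, 0, 0, 1, 1, 1, 0, 0]], [[0, 1, 1, 0, 1, 1, 0, 1, 1, 0, 0, 1, 1, 0, 0, 1, 1, 0, 0,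
  1, 0], [0, 0, 1, 1, 0, 1, 1, 0, 0, 0, 1, 1, 0, 0, 0, 1, 0], [1, 0, 1, 0, 1, 0, 1, 0, 1, 0], [1, 0, 1, 1, 1, 0, 1,
  1, 0, 0, 1, 1, 1, 0, 1, 0, 0], [0, 1, 0, 0, 1, 0, 0, 1, 0, 0, 0, 0, 1, 0, 0, 0], [0, 1, 1, 0, 0, 0, 1, 0, 0, 0,
  1, 1, 0, 1, 1, 0, 0], [1, 0, 1, 1, 0, 1, 0, 0, 0, 0, 1, 0, 0, 0, 0, 0, 0, 1]], [[0, 0, 1, 0, 0, 1, 0, 0, 1, 0, 0,
  1, 0, 0, 1], [1, 0, 0, 1, 1, 0, 1, 1, 0, 1, 1, 1, 1, 1, 0, 1, 0, 1, 0, 1, 1], [1, 0, 0, 1, 1, 0, 0, 1, 0, 0, 1,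
  0, 0, 0, 1, 0, 0, 1, 0, 1, 0], [0, 1, 1, 0, 0, 0, 1, 1, 1, 1, 0, 0, 1, 1, 0, 0, 0, 1, 0, 0, 1, 1, 0], [1, 1, 1,
  1, 0, 1, 0, 1, 1, 1, 1, 1, 0, 0, 1, 0, 1, 0], [1, 1, 0, 1, 0, 1, 0, 1, 1, 1, 0, 0, 1, 1, 0, 1, 1, 0, 1, 1, 1],
  [1, 1, 0, 0, 1, 0, 1, 0, 1, 1, 1, 1, 0, 1, 0, 1, 1, 1]], [[1, 1, 0, 0, 1, 1, 0, 1, 1, 0, 1, 1, 0], [0, 1, 0, 1,
  1, 0, 1, 1, 0, 1, 1, 0, 0, 1, 0, 0, 0, 0, 0], [1, 1, 1, 0, 0, 1, 1, 0, 1, 1, 0, 1, 1, 0, 1, 1, 1], [0, 0, 1, 1,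
  0, 1, 1, 0, 1, 0, 0, 1, 1, 0, 0, 1, 0, 0, 1, 0], [0, 1, 1, 0, 1, 1, 0, 1, 1, 1, 0, 0, 0, 0, 1, 0, 0, 1, 0, 1, 1,
  0], [0, 0, 0, 0, 1, 1, 0, 1, 1, 0, 1, 1, 0, 1, 1, 0, 0, 0, 0], [0, 0, 0, 1, 1, 0, 1, 1, 0, 1, 0, 0, 1, 1, 0, 0,
  1, 0, 0, 1]], [[1, 1, 1, 0, 0, 0, 1, 1, 0, 1, 1, 1, 1, 1, 1, 1, 0, 1, 0, 0, 0], [1, 0, 0, 1, 0, 1, 0, 1, 0, 0, 0,
  1, 0, 0, 1, 1, 1, 1, 0, 0, 0], [0, 0, 1, 1, 0, 0, 1, 0, 1, 1, 0, 0, 1, 1, 1, 0, 1, 0, 1], [0, 0, 0, 0, 0, 0, 0,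
  0, 1, 1, 1, 1, 1, 0, 0, 0, 0], [0, 0, 1, 0, 0, 1, 0, 0, 1, 0, 1, 0, 0, 0, 1, 0], [1, 0, 1, 1, 1, 1, 1, 1, 0, 1,
  0, 1, 0], [0, 0, 0, 0, 0, 0, 0, 1, 1, 1, 1, 1, 0, 0, 0, 0, 0]], [[1, 0, 0, 1, 1, 0, 0, 1, 1, 0, 1, 0, 0, 0, 1, 0,
  0, 1], [1, 0, 0, 1, 1, 1, 1, 1, 0, 1, 1, 0, 1, 0, 1, 1], [1, 1, 0, 1, 0, 1, 1, 0, 0, 0, 0, 1, 0, 1, 1, 1, 0, 0,
  0, 1], [1, 0, 0, 0, 1, 0, 0, 1, 1, 0, 0, 1, 1, 0, 0, 1, 1, 0], [0, 1, 1, 0, 0, 0, 1, 0, 0, 0, 0, 1, 0, 1, 0, 1,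
  0, 1], [1, 0, 0, 1, 1, 0, 1, 0, 0, 0, 1, 0, 0, 1, 1, 0, 0, 1], [1, 0, 0, 1, 1, 0, 0, 0, 0, 0, 1, 1, 1, 1, 0, 1,
  0, 1, 1, 0]], [[1, 0, 1, 1, 0, 1, 0, 0, 1, 0, 1, 0, 0, 0, 0, 0, 1, 1, 1, 0], [1, 0, 0, 1, 0, 1, 0, 0, 0, 0, 0, 1,
  1, 1, 0, 1, 0, 1, 1, 0], [0, 0, 0, 1, 0, 1, 0, 0, 0, 1, 1, 0, 1, 0, 1, 1, 0, 1, 0, 1, 1], [0, 1, 1, 0, 1, 0, 1,
  1, 0, 1, 0, 1, 1, 0, 0, 0, 1, 0, 1, 0, 0], [1, 1, 0, 1, 0, 1, 1, 0, 0, 0, 1, 0, 1, 0, 0, 0, 1, 1, 0, 1, 0], [0,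
  1, 0, 0, 1, 0, 1, 0, 0, 0, 0, 0, 1, 1, 1, 0, 1, 0, 1, 1], [1, 0, 0, 0, 1, 1, 0, 1, 0, 1, 1, 0, 1, 0, 1, 1, 0, 0,
  0, 1, 0]], [[1, 0, 0, 0, 1, 0, 0, 0, 1, 0, 0, 0], [0, 1, 0, 0, 1, 1, 0, 1, 0, 1, 1, 0, 1, 0, 0, 1, 1, 1, 1, 1,
  0], [0, 0, 0, 1, 0, 1, 1, 0, 1, 1, 0, 1, 0, 0, 0, 0], [0, 1, 1, 1, 1, 0, 1, 1, 0, 1, 0, 0, 0, 0, 1, 1, 0, 0], [0,
  1, 1, 0, 1, 0, 0, 0, 0, 1, 1, 0, 0, 0, 1, 1, 1, 1], [0, 0, 0, 1, 1, 1, 1, 0, 1, 1, 0, 1, 0, 0, 0, 0, 1, 1], [1,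
  0, 0, 0, 1, 1, 0, 1, 0, 0, 1, 1, 0, 1, 1, 0, 0, 0, 0, 1]], [[1, 1, 0, 0, 0, 0, 0, 1, 1, 0, 0, 1, 1, 0, 0, 0, 1,
  0, 1, 1, 0], [1, 0, 0, 1, 1, 0, 1, 0, 0, 1, 1, 0, 1, 0, 0, 1, 1, 0], [0, 0, 0, 0, 1, 1, 0, 1, 1, 0, 0, 0, 0, 1,
  0, 0, 1, 0, 1, 0, 1, 0, 0], [1, 1, 0, 0, 1, 1, 0, 0, 0, 1, 0, 1, 1, 0, 1, 1, 0, 0, 0, 0, 0], [1, 0, 1, 0, 1, 1,
  0, 1, 1, 0, 0, 1, 1, 0, 0, 0, 1, 0, 0, 1], [1, 1, 0, 0, 0, 1, 0, 0, 1, 1, 0, 1, 0, 1, 1, 0, 1, 1, 0, 0], [0, 1,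
  1, 0, 1, 1, 0, 0, 0, 0, 0, 1, 1, 0, 0, 1, 1, 0, 0, 0, 1]], [[0, 1, 1, 1, 0, 1, 1, 0, 0, 1, 0, 0, 0, 1, 1, 1, 0],
  [1, 1, 0, 0, 1, 1, 1, 0, 1, 1, 0, 0, 1, 0, 0, 0, 1], [0, 0, 0, 0, 0, 0, 0, 0, 0, 1, 1, 1, 0, 0, 0, 0, 0, 1, 1, 1,
  0], [1, 1, 0, 0, 1, 0, 0, 0, 1, 1, 1, 0, 0, 1, 1, 1, 0], [1, 1, 1, 0, 0, 1, 1, 1, 0, 1, 1, 0, 0, 1, 0, 0, 0], [1,
  1, 1, 1, 1, 0, 0, 0, 0, 0, 1], [0, 0, 0, 0, 0, 0, 0, 0, 0, 1, 0, 0, 0, 0, 0, 1, 1, 1, 1, 1, 0]], [[1, 0, 1, 0, 0,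
  0, 0, 0, 0, 1, 0, 1, 0], [1, 0, 1, 1, 1, 0, 0, 0, 0, 0, 1, 1, 1, 1, 1, 0, 1, 0, 1, 0], [0, 1, 0, 1, 1, 1, 1, 0,
  0, 0, 0, 0, 1, 1, 1, 1, 0, 1, 0, 1], [0, 1, 1, 1, 1, 0, 0, 0, 0, 0, 1, 1, 1, 1, 0, 1, 0, 1, 0, 1], [1, 0, 0, 1,
  1, 1, 1, 0, 0, 0, 0, 1, 0, 1, 1, 1, 0, 1, 0, 1, 1], [1, 1, 1, 1, 0, 0, 0, 0, 0, 1, 1, 1], [1, 1, 1, 0, 0, 1, 1,
  1, 1, 0, 0, 0, 0, 1, 0, 1, 1, 1, 0, 1, 0]], [[1, 0, 0, 1, 0, 1, 1, 0, 0, 0, 0, 1, 1, 0, 1, 0, 1, 1], [1, 1, 0, 0,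
  0, 0, 1, 1, 1, 1, 0, 0, 1, 1, 0, 0, 1, 1, 0, 0, 1], [0, 0, 1, 1, 0, 0, 1, 1, 0, 0, 1, 1], [0, 1, 1, 1, 0, 0, 1,
  0, 1, 1, 0, 0, 0, 0, 1, 1, 0, 1], [1, 0, 0, 1, 1, 1, 0, 0, 0, 0, 1, 1, 1, 1, 0, 0, 1, 1, 0, 0, 1], [1, 1, 0, 0,
  1, 1, 1, 0, 0, 0, 0, 1, 1, 1, 1, 0, 0, 1, 1, 0, 0], [1, 1, 1, 1, 0, 0, 1, 0, 0, 0, 1, 0, 1, 1, 1, 1, 0, 1, 0, 1,
  0]], [[0, 0, 1, 1, 1, 1, 0, 0, 1, 1, 0, 0, 1, 1, 1, 0, 1, 0, 0, 0, 0], [0, 0, 1, 1, 1, 0, 0, 1, 1, 0, 0, 1, 1, 1,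
  0, 1, 1, 0, 0, 0, 0], [1, 1, 0, 0, 1, 1, 1, 0, 1, 1, 1, 1, 1, 0, 0], [1, 1, 0, 1, 1, 1, 1, 1, 0, 0, 1, 1, 0, 0,
  1], [1, 1, 0, 1, 1, 1, 0, 0, 1, 1, 0, 0, 0, 1, 1, 1, 1, 0, 0, 0, 0], [1, 0, 0, 1, 1, 1, 0, 1, 1, 1, 1, 1, 0, 0,
  1], [1, 0, 1, 1, 1, 0, 0, 1, 1, 0, 0, 0, 1, 1, 1, 1, 0, 0, 0, 0, 1]], [[0, 0, 1, 0, 0, 1, 0, 1, 1, 1, 1, 1, 0, 1,
  0, 0, 1], [0, 0, 1, 1, 1, 1, 1, 0, 1, 1, 1, 0, 0, 1, 0, 0, 1, 0, 0, 0, 0, 0, 0], [0, 1, 0, 0, 0, 1, 0, 0, 0, 1,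
  0, 0, 0, 0, 1, 1, 1, 1, 0, 1, 0], [1, 0, 0, 0, 0, 1, 1, 1, 1, 0, 1, 0, 0, 1, 0, 0, 0, 1, 0, 0, 0], [1, 0, 0, 1,
  0, 1, 1, 1, 1, 1, 0, 1, 0, 0, 1, 0, 0], [1, 0, 1, 1, 1, 0, 0, 0, 1, 1, 1, 0, 1, 0, 1, 1, 1, 0], [0, 1, 0, 0, 1,
  0, 0, 1, 0, 1, 1, 1, 1, 1, 0, 1, 0]], [[0, 1, 0, 0, 0, 1, 0, 1, 0, 0, 0, 1, 1, 1, 0, 0, 0, 1, 1], [1, 0, 0, 0, 0,
  1, 1, 0, 1, 1, 1, 0, 0, 1, 0, 1], [1, 1, 1, 0, 0, 1, 0, 1, 1, 0, 0, 0, 0, 1, 1, 0], [1, 1, 1, 1, 1, 0, 1, 1, 1,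
  0, 1, 1, 0, 1, 0, 0, 1, 1, 0, 0, 0], [1, 0, 1, 1, 0, 0, 0, 0, 1, 1, 0, 1, 1, 1, 0, 0], [0, 1, 0, 0, 0, 1, 1, 0,
  0, 1, 1, 0, 1, 1, 0, 1], [1, 1, 0, 1, 1, 1, 0, 0, 1, 0, 1, 1, 0, 0, 0, 0]], [[1, 1, 0, 0, 1, 1, 0, 1, 1, 1, 0, 0,
  0, 1, 0, 1, 1, 0, 1, 0, 1, 0, 1, 1, 0], [0, 1, 0, 0, 0, 0, 1, 0, 1, 1, 0, 1, 0, 0, 0, 0, 1, 0, 1, 0, 0, 1], [1,
  0, 1, 0, 1, 0, 1, 0, 0, 0, 0, 1, 0, 0, 1, 1, 0, 0, 0, 1, 0, 0, 1, 1], [1, 1, 0, 1, 0, 0, 0, 0, 1, 0, 1, 1, 1, 1,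
  1, 0, 1, 1, 0, 1, 0, 1], [0, 0, 1, 0, 1, 1, 1, 1, 1, 0, 1, 1, 0, 1, 0, 1, 1, 1, 0, 1, 0, 0], [1, 0, 1, 0, 1, 1,
  0, 1, 0, 1, 1, 0, 1, 0, 1, 0, 0, 1, 0, 0, 0, 1, 0, 0], [0, 1, 1, 0, 0, 1, 1, 1, 1, 1, 0, 0, 1, 1, 0, 1, 0, 0, 1,
  0, 1, 0, 0, 1]]]

/-- `2 ≤ i < 30` -/
def idx28 : List ℕ := (List.range 28).map (· + 2)

theorem mem_idx28 {i : ℕ} (h2 : 2 ≤ i) (h : i < 30) : i ∈ idx28 :=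
  List.mem_map.2 ⟨i - 2, List.mem_range.2 (by omega), by omega⟩

theorem codes28 : (idx28.all fun i => isCode (xws.getD i []) (xcs.getD i 0) &&
    isCode (yws.getD i []) (ycs.getD i 0)) = true := by decide +kernel

theorem rep_x {i : ℕ} (h2 : 2 ≤ i) (hi : i < 30) : spAct.Rep (wd tv (xws.getD i [])) (xcs.getD i 0) := by
  have h := List.all_eq_true.1 codes28 i (mem_idx28 h2 hi)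
  rw [Bool.and_eq_true] at h
  exact rep_wd h.1

theorem rep_y {i : ℕ} (h2 : 2 ≤ i) (hi : i < 30) : spAct.Rep (wd tv (yws.getD i [])) (ycs.getD i 0) := by
  have h := List.all_eq_true.1 codes28 i (mem_idx28 h2 hi)
  rw [Bool.and_eq_true] at h
  exact rep_wd h.2

theorem comm28_chk : (idx28.all fun i => (List.range 6).all fun k =>
    apc 6 (xcs.getD i 0) (apc 6 (ycs.getD i 0) (2 ^ k)) ==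
      apc 6 (reps.getD i 0) (apc 6 (ycs.getD i 0) (apc 6 (xcs.getD i 0) (2 ^ k)))) = true := by decide +kernel

theorem comm28 {i : ℕ} (h2 : 2 ≤ i) (hi : i < 30) : wd tv (rws.getD i []) =
    wd tv (xws.getD i []) * wd tv (yws.getD i []) * (wd tv (xws.getD i []))⁻¹ * (wd tv (yws.getD i []))⁻¹ := by
  have h : wd tv (xws.getD i []) * wd tv (yws.getD i []) =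
      wd tv (rws.getD i []) * (wd tv (yws.getD i []) * wd tv (xws.getD i [])) := by
    apply spAct.ext
    intro k hk
    have h1 := eq_of_beq (List.all_eq_true.1 (List.all_eq_true.1 comm28_chk i (mem_idx28 h2 hi)) k
      (List.mem_range.2 hk))
    have hk2 := two_pow_lt (n := 6) hk
    have hA := apc_lt _ hk2 (rep_x h2 hi)
    have hB := apc_lt _ hk2 (rep_y h2 hi)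
    have hBA := apc_lt _ hA (rep_y h2 hi)
    rw [spAct.mul _ _ _ hk2, spAct.mul _ _ _ hk2, spAct.mul _ _ _ hk2, spAct.ap_eq (rep_y h2 hi) hk2,
      spAct.ap_eq (rep_x h2 hi) hB, spAct.ap_eq (rep_x h2 hi) hk2, spAct.ap_eq (rep_y h2 hi) hA,
      spAct.ap_eq (rep_r hi) hBA]
    exact h1
  rw [h]
  group

theorem gen28_chk : (idx28.all fun i => (List.range 7).all fun j => (List.range 6).all fun k =>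
    wab (xcs.getD i 0) (ycs.getD i 0) ((gws.getD i []).getD j []) (2 ^ k) == st6 j (2 ^ k)) = true := by
  decide +kernel

/-- the pair generates `Sp₆(2)` -/
theorem gen28 {i : ℕ} (h2 : 2 ≤ i) (hi : i < 30) :
    Subgroup.closure {wd tv (xws.getD i []), wd tv (yws.getD i [])} = ⊤ := by
  apply Cfsg.Agent.Co2Type.Abs.Pre.closure_seven
  intro j hj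
  rw [← tv_eq j hj]
  have e : tv j = pab (wd tv (xws.getD i [])) (wd tv (yws.getD i [])) ((gws.getD i []).getD j []) := by
    apply spAct.ext
    intro k hk
    have hk2 := two_pow_lt (n := 6) hk
    rw [ap_pab (rep_x h2 hi) (rep_y h2 hi) _ hk2, ap_tv j hk2]
    exact (eq_of_beq (List.all_eq_true.1 (List.all_eq_true.1 (List.all_eq_true.1 gen28_chk i (mem_idx28 h2 hi)) j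
      (List.mem_range.2 hj)) k (List.mem_range.2 hk))).symm
  rw [e]
  exact pab_mem _ _ _

/-- **D7a**: every element of `Sp₆(2)` other than `1` and the transvections is the commutator of a generating pair. -/
theorem gen_comm (g : S) (h1 : g ≠ 1) (ht : ∀ u : V, g ≠ tr u) :
    ∃ a b : S, g = a * b * a⁻¹ * b⁻¹ ∧ Subgroup.closure {a, b} = ⊤ := by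
  obtain ⟨i, hi, h, e⟩ := exists_rep30 g
  have h2 : 2 ≤ i := by
    by_contra hlt
    have h01 : i = 0 ∨ i = 1 := by omega
    rcases h01 with rfl | rfl
    · apply h1
      have e' : h * g * h⁻¹ = 1 := e
      rw [mul_inv_eq_one, mul_eq_left] at e'
      exact e'
    · rw [rws_one] at e
      apply ht (act h⁻¹ (enc 1))
      rw [← conj_tr, ← e]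
      group
  refine ⟨h⁻¹ * wd tv (xws.getD i []) * h, h⁻¹ * wd tv (yws.getD i []) * h, ?_, ?_⟩
  · have e2 : g = h⁻¹ * (h * g * h⁻¹) * h := by group
    rw [e2, e, comm28 h2 hi]
    group
  · have h3 : ∀ y : S, h⁻¹ * y * h = (MulAut.conj h⁻¹).toMonoidHom y := by
      intro y
      show _ = h⁻¹ * y * h⁻¹⁻¹
      rw [inv_inv]
    rw [h3, h3, ← Set.image_pair, ← MonoidHom.map_closure, gen28 h2 hi]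
    exact Subgroup.map_top_of_surjective _ (MulAut.conj h⁻¹).surjective

end Cfsg.Agent.H434.FF
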